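import Groth.Agent.FpqcDescent.Basic
import Mathlib.AlgebraicGeometry.Morphisms.UniversallyOpen
import Mathlib.AlgebraicGeometry.Morphisms.Preimmersion

/-!
Affineness of a quasi-compact quasi-separated morphism descends along faithfully flat morphisms
that need not be quasi-compact.
-/

set_option autoImplicit false
set_option backward.isDefEq.respectTransparency.types false

universe u

open CategoryTheory Limits MorphismProperty TopologicalSpace

namespace Groth.Agent.LeadAlg.AffineFlatDescent

open AlgebraicGeometry Groth.Agent.FpqcDescent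

/-- If the base change of a qcqs `Y / R` along a flat `R → S` is affine, then `Y → Spec Γ(Y)`
becomes an isomorphism over a flat affine scheme over `Spec Γ(Y)` whose image is the preimage
of the image of `Spec S`. -/
lemma exists_flat_isIso_baseChange {R S : CommRingCat.{u}} (φ : R ⟶ S) [Flat (Spec.map φ)]
    {Y : Scheme.{u}} (g : Y ⟶ Spec R) [CompactSpace Y]
    [QuasiSeparatedSpace Y] [hP : IsAffine (pullback (Spec.map φ) g)]
    (z : (Spec Γ(Y, ⊤) : Scheme.{u}))
    (hz : (Spec.map g.appTop ≫ inv (Spec R).toSpecΓ) z ∈ Set.range (Spec.map φ)) :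
    ∃ (B : CommRingCat.{u}) (ψ : Γ(Y, ⊤) ⟶ B), Flat (Spec.map ψ) ∧
      z ∈ Set.range (Spec.map ψ) ∧
        IsIso (pullback.snd Y.toSpecΓ (Spec.map ψ)) := by
  let f := Spec.map φ
  let H : IsPullback (pullback.snd f g) (pullback.fst f g) g f :=
    (IsPullback.of_hasPullback f g).flip
  have hiso := isIso_pushoutSection_of_isQuasiSeparated_of_flat_right H
    (US := ⊤) (UT := ⊤) (UX := ⊤) (UY := ⊤) (hUST := le_top) (hUSX := le_top) (hUY := by simp)
    (isAffineOpen_top _) (isAffineOpen_top _) isCompact_univ
    (isQuasiSeparated_univ_iff.mpr inferInstance)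
  have hpo := (isIso_pushoutSection_iff (f := f) H le_top le_top (by simp)).mp hiso
  simp only [appLE_top] at hpo
  have hsq : IsPullback (Spec.map (pullback.snd f g).appTop) (Spec.map (pullback.fst f g).appTop)
      (Spec.map g.appTop) (Spec.map f.appTop) :=
    isPullback_SpecMap_of_isPushout _ _ _ _ hpo
  let e : Spec R ⟶ Spec Γ(Spec R, ⊤) := (Spec R).toSpecΓ
  let eS : (Spec S) ⟶ Spec Γ(Spec S, ⊤) := (Spec S).toSpecΓ
  let a₀ : Spec Γ(Y, ⊤) ⟶ Spec R := Spec.map g.appTop ≫ inv e
  have hga : Y.toSpecΓ ≫ a₀ = g := by
    simp [a₀, e, ← Scheme.toSpecΓ_naturality_assoc]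
  let fA : Spec Γ(pullback f g, ⊤) ⟶ Spec Γ(Y, ⊤) := Spec.map (pullback.snd f g).appTop
  have hsq' : IsPullback fA (Spec.map (pullback.fst f g).appTop ≫ inv eS) a₀ f := by
    refine hsq.of_iso (Iso.refl _) (Iso.refl _) (asIso eS).symm (asIso e).symm ?_ ?_ ?_ ?_
    · simp [fA]
    · simp
    · simp [a₀]
    · simp [eS, e, f, ← Scheme.toSpecΓ_naturality_assoc]
  have hleft : IsPullback (pullback.snd f g) (pullback f g).toSpecΓ Y.toSpecΓ fA := by
    refine IsPullback.of_bot ?_ (Scheme.toSpecΓ_naturality _) hsq'
    rw [hga]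
    convert H using 1
    simp [eS, ← Scheme.toSpecΓ_naturality_assoc]
  refine ⟨Γ(pullback f g, ⊤), (pullback.snd f g).appTop, ?_, ?_, ?_⟩
  · exact MorphismProperty.of_isPullback hsq'.flip (inferInstanceAs (Flat f))
  · obtain ⟨s, hs⟩ := hz
    obtain ⟨w, hw, -⟩ := Scheme.Pullback.exists_preimage_pullback (f := a₀) (g := f) z s hs.symm
    refine ⟨hsq'.isoPullback.inv w, ?_⟩
    rw [← Scheme.Hom.comp_apply]
    exact (congr($(hsq'.isoPullback_inv_fst) w)).trans hw
  · have : pullback.snd Y.toSpecΓ fA = hleft.isoPullback.inv ≫ (pullback f g).toSpecΓ :=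
      hleft.isoPullback_inv_snd.symm
    rw [show (Spec.map (pullback.snd f g).appTop) = fA from rfl, this]
    infer_instance

/-- A quasi-compact morphism to an affine scheme is an isomorphism as soon as, around every
point, it becomes one after some flat base change. -/
lemma isIso_of_flat_baseChange {A : CommRingCat.{u}} {X : Scheme.{u}} (h : X ⟶ Spec A)
    [QuasiCompact h]
    (H : ∀ z : Spec A, ∃ (B : CommRingCat.{u}) (ψ : A ⟶ B), Flat (Spec.map ψ) ∧
      z ∈ Set.range (Spec.map ψ) ∧ IsIso (pullback.snd h (Spec.map ψ))) : IsIso h := by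
  have hinj : Function.Injective h := by
    intro x₁ x₂ hx
    obtain ⟨B, ψ, _, ⟨w, hw⟩, _⟩ := H (h x₁)
    obtain ⟨p₁, hp₁, hp₁'⟩ :=
      Scheme.Pullback.exists_preimage_pullback (f := h) (g := Spec.map ψ) x₁ w hw.symm
    obtain ⟨p₂, hp₂, hp₂'⟩ :=
      Scheme.Pullback.exists_preimage_pullback (f := h) (g := Spec.map ψ) x₂ w (hx.symm.trans hw.symm)
    have : p₁ = p₂ :=
      (pullback.snd h (Spec.map ψ)).homeomorph.injective (hp₁'.trans hp₂'.symm)
    rw [← hp₁, ← hp₂, this]
  have hsurj : Function.Surjective h := by
    intro z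
    obtain ⟨B, ψ, _, ⟨w, hw⟩, _⟩ := H z
    obtain ⟨p, hp⟩ := (pullback.snd h (Spec.map ψ)).surjective w
    refine ⟨pullback.fst h (Spec.map ψ) p, ?_⟩
    rw [← Scheme.Hom.comp_apply, pullback.condition, Scheme.Hom.comp_apply, hp, hw]
  have hspec : SpecializingMap h := by
    intro x z₀ hxz
    obtain ⟨B, ψ, _, ⟨w₀, hw₀⟩, _⟩ := H z₀
    obtain ⟨w, hw, hwz⟩ := Flat.generalizingMap (f := Spec.map ψ) (hw₀.symm ▸ hxz :
      h x ⤳ Spec.map ψ w₀)
    set e := (pullback.snd h (Spec.map ψ)).homeomorph
    have hp : pullback.fst h (Spec.map ψ) (e.symm w) = x := by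
      apply hinj
      rw [← Scheme.Hom.comp_apply, pullback.condition, Scheme.Hom.comp_apply]
      exact (congrArg (Spec.map ψ) (e.apply_symm_apply w)).trans hwz
    refine ⟨pullback.fst h (Spec.map ψ) (e.symm w₀), ?_, ?_⟩
    · rw [← hp]
      exact (hw.map e.symm.continuous).map (pullback.fst h (Spec.map ψ)).continuous
    · rw [← Scheme.Hom.comp_apply, pullback.condition, Scheme.Hom.comp_apply]
      exact (congrArg (Spec.map ψ) (e.apply_symm_apply w₀)).trans hw₀
  have hclosed : IsClosedMap h := (isClosedMap_iff_specializingMap h).2 hspec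
  have hopen : Topology.IsOpenEmbedding h :=
    (Equiv.toHomeomorphOfContinuousClosed (Equiv.ofBijective h ⟨hinj, hsurj⟩) h.continuous
      hclosed).isOpenEmbedding
  have hstalk : ∀ x, IsIso (h.stalkMap x) := by
    intro x
    obtain ⟨B, ψ, _, ⟨w, hw⟩, _⟩ := H (h x)
    -- the local ring at `h x` and the local homomorphism to that at `w`
    have hcomap : (h x).asIdeal = w.asIdeal.comap ψ.hom := by rw [← hw]; rfl
    let Az := CommRingCat.of (Localization.AtPrime (h x).asIdeal)
    let Bw := CommRingCat.of (Localization.AtPrime w.asIdeal)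
    let ιz : A ⟶ Az := CommRingCat.ofHom (algebraMap A (Localization.AtPrime (h x).asIdeal))
    let ιw : B ⟶ Bw := CommRingCat.ofHom (algebraMap B (Localization.AtPrime w.asIdeal))
    let θ : Az ⟶ Bw :=
      CommRingCat.ofHom (Localization.localRingHom (h x).asIdeal w.asIdeal ψ.hom hcomap)
    have hsquare : ιz ≫ θ = ψ ≫ ιw := by
      ext a
      exact Localization.localRingHom_to_map _ _ _ hcomap a
    have hψflat : ψ.hom.Flat := (HasRingHomProperty.Spec_iff (P := @Flat)).1 inferInstance
    have hθflat : θ.hom.Flat := by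
      obtain hh := hψflat.localRingHom w.asIdeal (h x).asIdeal hcomap
      exact hh
    have hθ : (@Surjective ⊓ @Flat ⊓ @QuasiCompact : MorphismProperty Scheme.{u})
        (Spec.map θ) := by
      haveI hloc : IsLocalHom θ.hom :=
        Localization.isLocalHom_localRingHom _ _ _ hcomap
      refine ⟨⟨?_, (HasRingHomProperty.Spec_iff (P := @Flat)).2 hθflat⟩, inferInstance⟩
      have hff : θ.hom.FaithfullyFlat := by
        algebraize [θ.hom]
        haveI : Module.Flat Az Bw := hθflat
        haveI : IsLocalHom (algebraMap Az Bw) := hloc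
        exact Module.FaithfullyFlat.of_flat_of_isLocalHom
      exact ((flat_and_surjective_SpecMap_iff θ).2 hff).2
    let j := Spec.map ιz
    haveI : IsPreimmersion j := IsPreimmersion.of_isLocalization (h x).asIdeal.primeCompl
    haveI : Flat j := (HasRingHomProperty.Spec_iff (P := @Flat)).2
      (RingHom.flat_algebraMap_iff.2 (IsLocalization.flat _ (h x).asIdeal.primeCompl))
    -- the restriction to the local ring is an isomorphism, by fpqc descent
    haveI hres : IsIso (pullback.snd h j) := by
      have h1 : IsIso (pullback.snd (pullback.snd h j) (Spec.map θ)) := by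
        have e1 : IsPullback (pullback.fst (pullback.snd h j) (Spec.map θ) ≫ pullback.fst h j)
            (pullback.snd (pullback.snd h j) (Spec.map θ)) h (Spec.map ιw ≫ Spec.map ψ) := by
          rw [← Spec.map_comp, ← hsquare, Spec.map_comp]
          exact (IsPullback.of_hasPullback _ _).paste_horiz (IsPullback.of_hasPullback h j)
        have e2 : IsPullback (pullback.fst (pullback.snd h (Spec.map ψ)) (Spec.map ιw) ≫
              pullback.fst h (Spec.map ψ))
            (pullback.snd (pullback.snd h (Spec.map ψ)) (Spec.map ιw)) h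
              (Spec.map ιw ≫ Spec.map ψ) :=
          (IsPullback.of_hasPullback _ _).paste_horiz (IsPullback.of_hasPullback h _)
        rw [← e1.isoIsPullback_hom_snd _ _ e2]
        infer_instance
      exact MorphismProperty.of_pullback_snd_of_descendsAlong
        (P := MorphismProperty.isomorphisms Scheme.{u}) hθ h1
    obtain ⟨p, hp, -⟩ := Scheme.Pullback.exists_preimage_pullback (f := h) (g := j) x
      (IsLocalRing.closedPoint Az) (by
        change h x = PrimeSpectrum.comap _ (IsLocalRing.closedPoint _)
        apply PrimeSpectrum.ext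
        exact (IsLocalization.AtPrime.comap_maximalIdeal
          (Localization.AtPrime (h x).asIdeal) (h x).asIdeal).symm)
    have hfst : ∀ p, IsIso ((pullback.fst h j).stalkMap p) := by
      intro p
      have hflat := Flat.stalkMap (pullback.fst h j) p
      have hff : ((pullback.fst h j).stalkMap p).hom.FaithfullyFlat := by
        algebraize [((pullback.fst h j).stalkMap p).hom]
        haveI : Module.Flat _ _ := hflat
        haveI : IsLocalHom (algebraMap (X.presheaf.stalk (pullback.fst h j p))
            ((pullback h j).presheaf.stalk p)) := inferInstanceAs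
          (IsLocalHom ((pullback.fst h j).stalkMap p).hom)
        exact Module.FaithfullyFlat.of_flat_of_isLocalHom
      exact (ConcreteCategory.isIso_iff_bijective _).2
        ⟨hff.injective, (pullback.fst h j).stalkMap_surjective p⟩
    have hj : ∀ q, IsIso (j.stalkMap q) := by
      intro q
      have hflat := Flat.stalkMap j q
      have hff : (j.stalkMap q).hom.FaithfullyFlat := by
        algebraize [(j.stalkMap q).hom]
        haveI : Module.Flat _ _ := hflat
        haveI : IsLocalHom (algebraMap ((Spec A).presheaf.stalk (j q))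
            ((Spec Az).presheaf.stalk q)) := inferInstanceAs (IsLocalHom (j.stalkMap q).hom)
        exact Module.FaithfullyFlat.of_flat_of_isLocalHom
      exact (ConcreteCategory.isIso_iff_bijective _).2
        ⟨hff.injective, j.stalkMap_surjective q⟩
    haveI := hj (pullback.snd h j p)
    haveI := hfst p
    have hcomp : IsIso ((pullback.fst h j ≫ h).stalkMap p) := by
      rw [Scheme.Hom.stalkMap_congr_hom _ _ pullback.condition p, Scheme.Hom.stalkMap_comp]
      haveI hs : IsIso ((pullback.snd h j).stalkMap p) := by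
        haveI : IsOpenImmersion (pullback.snd h j) := IsOpenImmersion.of_isIso _
        infer_instance
      have hin := @IsIso.comp_isIso _ _ _ _ _ _ _ (hj (pullback.snd h j p)) hs
      exact @IsIso.comp_isIso _ _ _ _ _ _ _ inferInstance hin
    rw [Scheme.Hom.stalkMap_comp] at hcomp
    haveI := hfst p
    have := @IsIso.of_isIso_comp_right _ _ _ _ _ (h.stalkMap (pullback.fst h j p))
      ((pullback.fst h j).stalkMap p) (hfst p) hcomp
    rw [← hp]
    exact this
  haveI : IsOpenImmersion h := IsOpenImmersion.of_isIso_stalkMap h hopen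
  exact isIso_of_isOpenImmersion_of_opensRange_eq_top h
    (TopologicalSpace.Opens.ext (by simpa using hsurj.range_eq))

/-- Affineness descends along flat surjective morphisms for qcqs morphisms. -/
theorem isAffineHom_of_baseChange_flat {X Y Y' : Scheme.{u}} (f : X ⟶ Y) (g : Y' ⟶ Y)
    [Flat g] [Surjective g] [QuasiCompact f] [QuasiSeparated f]
    [IsAffineHom (pullback.snd f g)] : IsAffineHom f := by
  wlog hY : ∃ R, Y = Spec R generalizing X Y Y' with key
  · rw [IsZariskiLocalAtTarget.iff_of_openCover (P := @IsAffineHom) Y.affineCover]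
    intro i
    let c := Y.affineCover.f i
    let f' := pullback.snd f c
    let g' := pullback.snd g c
    haveI : QuasiCompact f' := MorphismProperty.pullback_snd _ _ ‹_›
    haveI : QuasiSeparated f' := MorphismProperty.pullback_snd _ _ ‹_›
    haveI : Surjective g' := MorphismProperty.pullback_snd _ _ ‹_›
    haveI : Flat g' := MorphismProperty.pullback_snd _ _ ‹_›
    have e1 : IsPullback (pullback.fst f' g' ≫ pullback.fst f c) (pullback.snd f' g') f
        (pullback.fst g c ≫ g) := by
      rw [pullback.condition]
      exact (IsPullback.of_hasPullback f' g').paste_horiz (IsPullback.of_hasPullback f c)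
    have e2 : IsPullback (pullback.fst (pullback.snd f g) (pullback.fst g c) ≫ pullback.fst f g)
        (pullback.snd (pullback.snd f g) (pullback.fst g c)) f (pullback.fst g c ≫ g) :=
      (IsPullback.of_hasPullback _ _).paste_horiz (IsPullback.of_hasPullback f g)
    haveI : IsAffineHom (pullback.snd f' g') := by
      haveI : IsAffineHom (pullback.snd (pullback.snd f g) (pullback.fst g c)) :=
        MorphismProperty.pullback_snd _ _ ‹_›
      rw [← e1.isoIsPullback_hom_snd _ _ e2,
        MorphismProperty.cancel_left_of_respectsIso @IsAffineHom]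
      assumption
    exact key f' g' ⟨_, rfl⟩
  obtain ⟨R, rfl⟩ := hY
  haveI : CompactSpace X := QuasiCompact.compactSpace_of_compactSpace f
  haveI : QuasiSeparatedSpace X := quasiSeparatedSpace_of_quasiSeparated f
  let a : Spec Γ(X, ⊤) ⟶ Spec R := Spec.map f.appTop ≫ inv (Spec R).toSpecΓ
  haveI : QuasiCompact X.toSpecΓ := inferInstance
  have : IsIso X.toSpecΓ := by
    refine isIso_of_flat_baseChange _ fun z => ?_
    obtain ⟨y', hy'⟩ := g.surjective (a z)
    let k := Y'.affineCover.f (Y'.affineCover.idx y')
    obtain ⟨w, hw⟩ := Y'.affineCover.covers y'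
    haveI : IsOpenImmersion k := inferInstanceAs (IsOpenImmersion (Y'.affineCover.f _))
    have hkg : Flat (k ≫ g) := MorphismProperty.comp_mem _ k g inferInstance ‹Flat g›
    let φ := Spec.preimage (k ≫ g)
    have hφ : Spec.map φ = k ≫ g := Spec.map_preimage _
    haveI : Flat (Spec.map φ) := hφ.symm ▸ hkg
    haveI : IsAffine (pullback (Spec.map φ) f) := by
      have e2 : IsPullback (pullback.fst (pullback.snd f g) k ≫ pullback.fst f g)
          (pullback.snd (pullback.snd f g) k) f (Spec.map φ) := by
        rw [hφ]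
        exact (IsPullback.of_hasPullback _ _).paste_horiz (IsPullback.of_hasPullback f g)
      haveI : IsAffineHom (pullback.snd (pullback.snd f g) k) :=
        MorphismProperty.pullback_snd _ _ ‹_›
      haveI : IsAffine (pullback (pullback.snd f g) k) :=
        isAffine_of_isAffineHom (pullback.snd (pullback.snd f g) k)
      exact .of_isIso e2.flip.isoPullback.inv
    refine exists_flat_isIso_baseChange φ f z ⟨w, ?_⟩
    rw [hφ, Scheme.Hom.comp_apply]
    exact (congrArg g hw).trans hy'
  haveI : IsAffine X := ⟨this⟩
  infer_instance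

end Groth.Agent.LeadAlg.AffineFlatDescent
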