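import Groth.Prelude.Def_BlowUp2

/-! Factors of effective Cartier ideal sheaves are effective Cartier. -/

set_option autoImplicit false
set_option backward.isDefEq.respectTransparency.types false

universe u

open CategoryTheory AlgebraicGeometry

namespace Groth.Agent.LeadAlg.CartierFactor

variable {X : Scheme.{u}}

theorem left (I J : X.IdealSheafData) (h : BlowUp.IsEffCartierIdeal (I * J)) :
    BlowUp.IsEffCartierIdeal I := by
  intro x
  obtain ⟨U, hxU, f, hf, hIJ⟩ := h x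
  have hprod : I.ideal U * J.ideal U = Ideal.span {f} := by
    rw [← hIJ, Scheme.IdealSheafData.ideal_mul]; rfl
  let S : Set Γ(X, U.1) := {c | ∃ a ∈ I.ideal U, ∃ b ∈ J.ideal U, a * b = f * c}
  have htop : Ideal.span S = ⊤ := by
    have hle : I.ideal U * J.ideal U ≤ Ideal.span {f} * Ideal.span S := by
      refine Ideal.mul_le.2 fun a ha b hb => ?_
      obtain ⟨c, hc⟩ := Ideal.mem_span_singleton'.1 (hprod ▸ Ideal.mul_mem_mul ha hb :
        a * b ∈ Ideal.span {f})
      rw [← hc, mul_comm c]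
      exact Ideal.mul_mem_mul (Ideal.mem_span_singleton_self f)
        (Ideal.subset_span ⟨a, ha, b, hb, by rw [mul_comm f, hc]⟩)
    obtain ⟨z, hz, hfz⟩ := Ideal.mem_span_singleton_mul.1
      (hle (hprod.symm ▸ Ideal.mem_span_singleton_self f))
    have hz1 : z = 1 := (isRegular_iff_mem_nonZeroDivisors.2 hf).left (hfz.trans (mul_one f).symm)
    exact (Ideal.eq_top_iff_one _).2 (hz1 ▸ hz)
  have hx : ∃ c ∈ S, x ∈ X.basicOpen c := by
    by_contra hno
    push Not at hno
    have hle : Ideal.span S ≤ (U.2.primeIdealOf ⟨x, hxU⟩).asIdeal := Ideal.span_le.2 fun c hc => by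
      by_contra hcp
      refine hno c hc ?_
      have h1 : U.2.fromSpec (U.2.primeIdealOf ⟨x, hxU⟩) ∈ X.basicOpen c := by
        have h2 : U.2.primeIdealOf ⟨x, hxU⟩ ∈ (PrimeSpectrum.basicOpen c) := hcp
        rw [← U.2.fromSpec_preimage_basicOpen] at h2
        exact h2
      rwa [IsAffineOpen.fromSpec_primeIdealOf] at h1
    exact (U.2.primeIdealOf ⟨x, hxU⟩).2.ne_top (top_le_iff.1 (htop ▸ hle))
  obtain ⟨c, ⟨a, ha, b, hb, hab⟩, hxc⟩ := hx
  let V := X.affineBasicOpen c
  let r : Γ(X, U.1) →+* Γ(X, V.1) := (X.presheaf.map (homOfLE <| X.basicOpen_le c).op).hom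
  letI : Algebra Γ(X, U.1) Γ(X, V.1) := r.toAlgebra
  haveI : IsLocalization.Away c Γ(X, V.1) := U.2.isLocalization_basicOpen c
  have hI : I.ideal V = (I.ideal U).map r := (I.map_ideal_basicOpen U c).symm
  have hJ : J.ideal V = (J.ideal U).map r := (J.map_ideal_basicOpen U c).symm
  have hIJV : I.ideal V * J.ideal V = Ideal.span {r f} := by
    rw [hI, hJ, ← Ideal.map_mul, hprod, Ideal.map_span, Set.image_singleton]
  have hu : IsUnit (r c) := IsLocalization.Away.algebraMap_isUnit c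
  have hrf : r f ∈ nonZeroDivisors Γ(X, V.1) :=
    IsLocalization.map_nonZeroDivisors_le (Submonoid.powers c) Γ(X, V.1) ⟨f, hf, rfl⟩
  have habV : r a * r b = r f * r c := by rw [← map_mul, hab, map_mul]
  have hra : r a ∈ nonZeroDivisors Γ(X, V.1) :=
    (mul_mem_nonZeroDivisors.1 (habV ▸ mul_mem hrf (IsUnit.mem_nonZeroDivisors hu) :
      r a * r b ∈ nonZeroDivisors Γ(X, V.1))).1
  refine ⟨V, hxc, r a, hra, le_antisymm (fun y hy => ?_) ?_⟩
  · have hrb : r b ∈ J.ideal V := hJ ▸ Ideal.mem_map_of_mem r hb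
    obtain ⟨d, hd⟩ := Ideal.mem_span_singleton'.1 (hIJV ▸ Ideal.mul_mem_mul hy hrb :
      y * r b ∈ Ideal.span {r f})
    have hu2 := IsUnit.mem_nonZeroDivisors hu
    obtain ⟨w, hw⟩ := hu
    refine Ideal.mem_span_singleton'.2 ⟨d * ↑w⁻¹, ?_⟩
    refine (isRegular_iff_mem_nonZeroDivisors.2 (mul_mem hrf hu2)).right ?_
    show d * ↑w⁻¹ * r a * (r f * r c) = y * (r f * r c)
    calc d * ↑w⁻¹ * r a * (r f * r c) = r a * (d * r f) * (r c * ↑w⁻¹) := by ring
      _ = r a * (y * r b) * (r c * ↑w⁻¹) := by rw [hd]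
      _ = y * (r f * r c) * (r c * ↑w⁻¹) := by rw [← habV]; ring
      _ = y * (r f * r c) := by rw [← hw, Units.mul_inv, mul_one]
  · rw [Ideal.span_singleton_le_iff_mem, hI]
    exact Ideal.mem_map_of_mem r ha

end Groth.Agent.LeadAlg.CartierFactor
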