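import Mathlib
import Groth.Prelude.Def_FinFr

/-!
The fixed scheme of Frobenius on `X_K` is reduced and finite (adapted from `Groth.Agent.S13067`).
-/

set_option autoImplicit false
universe u
open CategoryTheory AlgebraicGeometry Limits

namespace Groth.Agent.LeadAlg.FrobFix

set_option maxHeartbeats 1000000
set_option backward.isDefEq.respectTransparency.types false

open TensorProduct

theorem frob_apply (k R : Type u) [Field k] [Fintype k] [CommRing R] [Algebra k R] (x : R) :
    FiniteField.frobeniusAlgHom k R x = x ^ Nat.card k := by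
  rw [FiniteField.coe_frobeniusAlgHom, Fintype.card_eq_nat_card]

/-- `A/(a^q - a)` tensor a field is reduced -/
theorem isReduced_tensor_of_pow_eq (k : Type u) [Field k] [Finite k] (A' K : Type u) [CommRing A']
    [Algebra k A'] [Field K] [Algebra k K] (hA : ∀ a : A', a ^ Nat.card k = a) :
    _root_.IsReduced (A' ⊗[k] K) := by
  letI := Fintype.ofFinite k
  have hq : Fintype.card k = Nat.card k := Fintype.card_eq_nat_card
  let φ : K →ₐ[k] K := FiniteField.frobeniusAlgHom k K
  have hinj : Function.Injective (Algebra.TensorProduct.map (AlgHom.id k A') φ) :=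
    Module.Flat.lTensor_preserves_injective_linearMap φ.toLinearMap φ.toRingHom.injective
  have key : ∀ x : A' ⊗[k] K, x ^ Nat.card k = Algebra.TensorProduct.map (AlgHom.id k A') φ x := by
    intro x
    have h : (FiniteField.frobeniusAlgHom k (A' ⊗[k] K)) = Algebra.TensorProduct.map (AlgHom.id k A') φ := by
      refine Algebra.TensorProduct.ext' fun a c => ?_
      simp only [φ, Algebra.TensorProduct.map_tmul, AlgHom.id_apply, frob_apply, Algebra.TensorProduct.tmul_pow, hA]
    rw [← h, frob_apply]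
  refine isReduced_iff_pow_one_lt (Nat.card k) Finite.one_lt_card |>.mpr fun x hx => ?_
  rw [key] at hx
  exact hinj (by rw [hx, map_zero])

theorem isReduced_and_finite_fix {k : Type u} [Field k] [Finite k] (K : Type u) [Field K] [Algebra k K]
    {X : Scheme.{u}} (f : X ⟶ Spec (CommRingCat.of k)) (FX : X ⟶ X)
    (hle : ∀ U : X.Opens, U ≤ FX ⁻¹ᵁ U)
    (hFapp : ∀ (U : X.Opens) (s : Γ(X, U)), (FX.appLE U U (hle U)).hom s = s ^ Nat.card k)
    (F : FinFr.ext K f ⟶ FinFr.ext K f)
    (hF1 : F ≫ FinFr.extπ K f = FinFr.extπ K f ≫ FX)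
    (hF2 : F ≫ FinFr.extStr K f = FinFr.extStr K f) [LocallyOfFiniteType f] [QuasiCompact f] :
    IsReduced (FinFr.fixScheme (FinFr.extStr K f) F hF2) ∧
      Finite ↥(FinFr.fixScheme (FinFr.extStr K f) F hF2) := by
  classical
  letI := Fintype.ofFinite k
  have hq : Fintype.card k = Nat.card k := Fintype.card_eq_nat_card
  let p := FinFr.extStr K f
  let Z := FinFr.fixScheme p F hF2
  let gr : FinFr.ext K f ⟶ pullback p p :=
    pullback.lift (𝟙 _) F (by rw [hF2, Category.id_comp])
  let dia : FinFr.ext K f ⟶ pullback p p := pullback.lift (𝟙 _) (𝟙 _) rfl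
  let i : Z ⟶ FinFr.ext K f := pullback.fst gr dia
  haveI : Mono dia := mono_of_mono_fac (pullback.lift_fst (𝟙 _) (𝟙 _) rfl)
  haveI : Mono i := show Mono (pullback.fst gr dia) from inferInstance
  have hiF : i ≫ F = i := by
    have h1 := congrArg (· ≫ pullback.fst p p) (pullback.condition (f := gr) (g := dia))
    have h2 := congrArg (· ≫ pullback.snd p p) (pullback.condition (f := gr) (g := dia))
    simp only [gr, dia, Category.assoc, pullback.lift_fst, pullback.lift_snd, Category.comp_id] at h1 h2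
    rw [← h1] at h2
    exact h2
  suffices h : ∀ U : X.Opens, IsAffineOpen U → ∃ (W : Scheme.{u}) (s : W ⟶ Z),
      IsOpenImmersion s ∧ IsReduced W ∧ Finite W ∧
        ∀ z, (i ≫ FinFr.extπ K f) z ∈ U → z ∈ Set.range s by
    choose W s h1 h2 h3 h4 using h
    refine ⟨?_, ?_⟩
    · haveI : ∀ x : Z, _root_.IsReduced (Z.presheaf.stalk x) := fun x => by
        obtain ⟨U, hU, hxU, -⟩ := exists_isAffineOpen_mem_and_subset (x := (i ≫ FinFr.extπ K f) x)
          (U := (⊤ : X.Opens)) trivial
        obtain ⟨y, hy⟩ := h4 U hU x hxU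
        haveI := h1 U hU
        haveI := h2 U hU
        rw [← hy]
        haveI : IsIso ((s U hU).stalkMap y) := inferInstance
        exact isReduced_of_injective ((s U hU).stalkMap y).hom
          (ConcreteCategory.bijective_of_isIso ((s U hU).stalkMap y)).1
      exact isReduced_of_isReduced_stalk Z
    · haveI : CompactSpace X := QuasiCompact.compactSpace_of_compactSpace f
      obtain ⟨t, ht⟩ := isCompact_univ.elim_finite_subcover
        (fun U : X.affineOpens => (U.1 : Set X)) (fun U => U.1.2) (fun x _ => by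
          obtain ⟨U, hU, hxU, -⟩ := exists_isAffineOpen_mem_and_subset (x := x)
            (U := (⊤ : X.Opens)) trivial
          exact Set.mem_iUnion.2 ⟨⟨U, hU⟩, hxU⟩)
      haveI := fun U : t => h3 U.1.1 U.1.2
      refine Finite.of_surjective (fun p : Σ U : t, W U.1.1 U.1.2 => s p.1.1.1 p.1.1.2 p.2) fun z => ?_
      obtain ⟨U, hUt, hzU⟩ := Set.mem_iUnion₂.1 (ht (Set.mem_univ ((i ≫ FinFr.extπ K f) z)))
      obtain ⟨y, hy⟩ := h4 U.1 U.2 z hzU
      exact ⟨⟨⟨U, hUt⟩, y⟩, hy⟩
  intro U hU
  let A := Γ(X, U)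
  letI algA : Algebra k A := (Spec.preimage (hU.fromSpec ≫ f)).hom.toAlgebra
  have hAf : Spec.map (CommRingCat.ofHom (algebraMap k A)) = hU.fromSpec ≫ f := by
    show Spec.map (CommRingCat.ofHom (Spec.preimage (hU.fromSpec ≫ f)).hom) = _
    exact Spec.map_preimage _
  let frA : (A : Type u) →ₐ[k] A := FiniteField.frobeniusAlgHom k A
  let inA : (A : Type u) →+* (A : Type u) ⊗[k] K := Algebra.TensorProduct.includeLeftRingHom
  let inK : K →+* (A : Type u) ⊗[k] K := Algebra.TensorProduct.includeRight.toRingHom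
  let Φ : (A : Type u) ⊗[k] K →ₐ[k] (A : Type u) ⊗[k] K :=
    Algebra.TensorProduct.map frA (AlgHom.id k K)
  let j : Spec (CommRingCat.of ((A : Type u) ⊗[k] K)) ⟶ FinFr.ext K f :=
    (pullbackSpecIso k A K).inv ≫ pullback.map _ _ f (FinFr.specι k K) hU.fromSpec (𝟙 _) (𝟙 _)
      (by rw [Category.comp_id]; exact hAf) (by simp)
  have hjfst : j ≫ FinFr.extπ K f = Spec.map (CommRingCat.ofHom inA) ≫ hU.fromSpec := by
    rw [Category.assoc, pullback.lift_fst, ← Category.assoc, pullbackSpecIso_inv_fst]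
  have hjsnd : j ≫ p = Spec.map (CommRingCat.ofHom inK) := by
    show j ≫ pullback.snd f (FinFr.specι k K) = _
    rw [Category.assoc, pullback.lift_snd, Category.comp_id, pullbackSpecIso_inv_snd]
    rfl
  haveI hjo : IsOpenImmersion j := by
    dsimp only [j]
    infer_instance
  have hzj : ∀ z : Z, (i ≫ FinFr.extπ K f) z ∈ U → i z ∈ Set.range j := by
    intro z hzU
    show i z ∈ Set.range (_ ≫ _ : Spec _ ⟶ FinFr.ext K f)
    rw [Scheme.Hom.comp_base, TopCat.coe_comp, Set.range_comp, Set.range_eq_univ.mpr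
      (ConcreteCategory.bijective_of_isIso ((pullbackSpecIso k A K).inv.base)).2, Set.image_univ,
      Scheme.Pullback.range_map]
    refine ⟨?_, ?_⟩
    · show (i ≫ FinFr.extπ K f) z ∈ Set.range hU.fromSpec
      rw [IsAffineOpen.range_fromSpec]
      exact hzU
    · simp
  have hjF : j ≫ F = Spec.map (CommRingCat.ofHom Φ.toRingHom) ≫ j := by
    apply pullback.hom_ext
    · show (j ≫ F) ≫ FinFr.extπ K f = (_ ≫ j) ≫ FinFr.extπ K f
      have hfr : hU.fromSpec ≫ FX = Spec.map (CommRingCat.ofHom frA.toRingHom) ≫ hU.fromSpec := by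
        rw [← IsAffineOpen.SpecMap_appLE_fromSpec FX hU hU (hle U)]
        congr 2
        refine CommRingCat.hom_ext (RingHom.ext fun s => ?_)
        show (FX.appLE U U (hle U)).hom s = frA s
        rw [hFapp]
        exact (frob_apply k (A : Type u) s).symm
      rw [Category.assoc, hF1, ← Category.assoc, hjfst, Category.assoc, hfr, Category.assoc, hjfst,
        ← Category.assoc, ← Category.assoc, ← Spec.map_comp, ← Spec.map_comp]
      congr 2
    · show (j ≫ F) ≫ p = (_ ≫ j) ≫ p
      rw [Category.assoc, show F ≫ p = p from hF2, hjsnd, Category.assoc, hjsnd, ← Spec.map_comp]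
      congr 1
      refine CommRingCat.hom_ext (RingHom.ext fun s => ?_)
      show inK s = Φ (inK s)
      simp [inK, Φ]
  let I : Ideal (A : Type u) := Ideal.span (Set.range fun a : (A : Type u) => a ^ Nat.card k - a)
  have hA' : ∀ a : (A : Type u) ⧸ I, a ^ Nat.card k = a := by
    intro a
    obtain ⟨a, rfl⟩ := Ideal.Quotient.mk_surjective a
    rw [← map_pow, Ideal.Quotient.eq]
    exact Ideal.subset_span ⟨a, rfl⟩
  haveI := isReduced_tensor_of_pow_eq k ((A : Type u) ⧸ I) K hA'
  let ψ : (A : Type u) ⊗[k] K →ₐ[k] ((A : Type u) ⧸ I) ⊗[k] K :=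
    Algebra.TensorProduct.map (Ideal.Quotient.mkₐ k I) (AlgHom.id k K)
  have hψs : Function.Surjective ψ := by
    show Function.Surjective (TensorProduct.map (Ideal.Quotient.mkₐ k I).toLinearMap
      (AlgHom.id k K).toLinearMap)
    exact TensorProduct.map_surjective Ideal.Quotient.mk_surjective Function.surjective_id
  haveI : IsClosedImmersion (Spec.map (CommRingCat.ofHom ψ.toRingHom)) :=
    IsClosedImmersion.spec_of_surjective _ hψs
  have hψΦ : ψ.comp Φ = ψ := by
    refine Algebra.TensorProduct.ext' fun a c => ?_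
    simp only [ψ, Φ, AlgHom.comp_apply, Algebra.TensorProduct.map_tmul, AlgHom.id_apply]
    congr 1
    show Ideal.Quotient.mk I (frA a) = Ideal.Quotient.mk I a
    rw [show frA a = a ^ Nat.card k from frob_apply k (A : Type u) a, map_pow, hA']
  let jq : Spec (CommRingCat.of (((A : Type u) ⧸ I) ⊗[k] K)) ⟶ FinFr.ext K f :=
    Spec.map (CommRingCat.ofHom ψ.toRingHom) ≫ j
  have hjqF : jq ≫ F = jq := by
    rw [Category.assoc, hjF, ← Category.assoc, ← Spec.map_comp]
    congr 2
    refine CommRingCat.hom_ext ?_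
    exact congrArg AlgHom.toRingHom hψΦ
  let uq : Spec (CommRingCat.of (((A : Type u) ⧸ I) ⊗[k] K)) ⟶ Z :=
    pullback.lift jq jq (by
      apply pullback.hom_ext
      · simp only [gr, dia, Category.assoc]
        erw [pullback.lift_fst, pullback.lift_fst]
      · simp only [gr, dia, Category.assoc]
        erw [pullback.lift_snd, pullback.lift_snd, hjqF, Category.comp_id])
  let W := pullback i j
  let t : W ⟶ Spec (CommRingCat.of ((A : Type u) ⊗[k] K)) := pullback.snd i j
  have ht : t ≫ Spec.map (CommRingCat.ofHom Φ.toRingHom) = t := by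
    rw [← cancel_mono j, Category.assoc, ← hjF, ← Category.assoc]
    show (pullback.snd i j ≫ j) ≫ F = _
    rw [← pullback.condition, Category.assoc, hiF, pullback.condition]
  let h : CommRingCat.of ((A : Type u) ⊗[k] K) ⟶ Γ(W, ⊤) := (Scheme.ΓSpecIso _).inv ≫ t.appTop
  have hth : t = W.toSpecΓ ≫ Spec.map h := by
    rw [Spec.map_comp, ← Category.assoc, ← Scheme.toSpecΓ_naturality, Category.assoc,
      toSpecΓ_SpecMap_ΓSpecIso_inv, Category.comp_id]
  have hhΦ : ∀ x, h.hom (Φ x) = h.hom x := by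
    intro x
    have h2 := congrArg Scheme.Hom.appTop ht
    rw [Scheme.Hom.comp_appTop] at h2
    have h3 : CommRingCat.ofHom Φ.toRingHom ≫ h = h := by
      show _ ≫ (Scheme.ΓSpecIso _).inv ≫ t.appTop = (Scheme.ΓSpecIso _).inv ≫ t.appTop
      rw [← Category.assoc, Scheme.ΓSpecIso_inv_naturality, Category.assoc, h2]
    exact congrArg (fun g => g.hom x) h3
  letI : Algebra k Γ(W, ⊤) := (h.hom.comp (algebraMap k ((A : Type u) ⊗[k] K))).toAlgebra
  let ha : (A : Type u) ⊗[k] K →ₐ[k] Γ(W, ⊤) := AlgHom.mk h.hom fun _ => rfl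
  let h1 : ((A : Type u) ⧸ I) →ₐ[k] Γ(W, ⊤) :=
    Ideal.Quotient.liftₐ I (ha.comp Algebra.TensorProduct.includeLeft) (by
      have : I ≤ RingHom.ker (ha.comp Algebra.TensorProduct.includeLeft) := by
        rw [Ideal.span_le]
        rintro _ ⟨a, rfl⟩
        rw [SetLike.mem_coe, RingHom.mem_ker, map_sub, sub_eq_zero]
        show h.hom ((a ^ Nat.card k) ⊗ₜ[k] 1) = h.hom (a ⊗ₜ[k] 1)
        rw [← hhΦ (a ⊗ₜ[k] 1)]
        simp [Φ, frA, frob_apply]
      intro a ha'
      exact this ha')
  let hQ : ((A : Type u) ⧸ I) ⊗[k] K →ₐ[k] Γ(W, ⊤) :=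
    Algebra.TensorProduct.lift h1 (ha.comp Algebra.TensorProduct.includeRight)
      (fun _ _ => Commute.all _ _)
  have hfac : hQ.comp ψ = ha := by
    refine Algebra.TensorProduct.ext' fun a c => ?_
    simp only [hQ, ψ, AlgHom.comp_apply, Algebra.TensorProduct.map_tmul, AlgHom.id_apply,
      Algebra.TensorProduct.lift_tmul]
    show ha (a ⊗ₜ[k] 1) * ha (1 ⊗ₜ[k] c) = ha (a ⊗ₜ[k] c)
    rw [← map_mul]
    simp
  let w1 : W ⟶ Spec (CommRingCat.of (((A : Type u) ⧸ I) ⊗[k] K)) :=
    W.toSpecΓ ≫ Spec.map (CommRingCat.ofHom hQ.toRingHom)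
  have hw1 : w1 ≫ Spec.map (CommRingCat.ofHom ψ.toRingHom) = t := by
    rw [Category.assoc, ← Spec.map_comp, hth]
    congr 2
    exact CommRingCat.hom_ext (congrArg AlgHom.toRingHom hfac)
  let w2 : Spec (CommRingCat.of (((A : Type u) ⧸ I) ⊗[k] K)) ⟶ W :=
    pullback.lift uq (Spec.map (CommRingCat.ofHom ψ.toRingHom)) (pullback.lift_fst _ _ _)
  haveI : Mono t := show Mono (pullback.snd i j) from inferInstance
  let e : W ≅ Spec (CommRingCat.of (((A : Type u) ⧸ I) ⊗[k] K)) :=
    { hom := w1
      inv := w2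
      hom_inv_id := by
        rw [← cancel_mono t, Category.assoc, Category.id_comp]
        show w1 ≫ w2 ≫ pullback.snd i j = _
        rw [pullback.lift_snd, hw1]
      inv_hom_id := by
        rw [← cancel_mono (Spec.map (CommRingCat.ofHom ψ.toRingHom)), Category.assoc, hw1,
          Category.id_comp]
        exact pullback.lift_snd _ _ _ }
  haveI : IsIso e.hom := e.isIso_hom
  haveI : IsOpenImmersion e.hom := IsOpenImmersion.of_isIso _
  refine ⟨W, pullback.fst i j, inferInstance, isReduced_of_isOpenImmersion e.hom, ?_, fun z hzU => ?_⟩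
  · haveI : LocallyOfFiniteType (Spec.map (CommRingCat.ofHom (algebraMap k (A : Type u)))) := by
      rw [hAf]; infer_instance
    haveI : Algebra.FiniteType k (A : Type u) := RingHom.finiteType_algebraMap.1
      ((HasRingHomProperty.Spec_iff (P := @LocallyOfFiniteType)).1 ‹_›)
    haveI : Algebra.FiniteType k ((A : Type u) ⧸ I) :=
      Algebra.FiniteType.of_surjective (Ideal.Quotient.mkₐ k I) Ideal.Quotient.mk_surjective
    haveI : Algebra.IsIntegral k ((A : Type u) ⧸ I) := ⟨fun a =>
      ⟨Polynomial.X ^ Nat.card k - Polynomial.X, Polynomial.monic_X_pow_sub (by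
          rw [Polynomial.degree_X]; exact_mod_cast Finite.one_lt_card),
        by rw [Polynomial.eval₂_sub, Polynomial.eval₂_X_pow, Polynomial.eval₂_X, hA', sub_self]⟩⟩
    haveI : Module.Finite k ((A : Type u) ⧸ I) := Algebra.IsIntegral.finite
    haveI : Module.Finite K (K ⊗[k] ((A : Type u) ⧸ I)) := inferInstance
    haveI : IsArtinianRing (K ⊗[k] ((A : Type u) ⧸ I)) :=
      IsArtinianRing.of_finite K (K ⊗[k] ((A : Type u) ⧸ I))
    haveI : IsArtinianRing (((A : Type u) ⧸ I) ⊗[k] K) :=
      Function.Surjective.isArtinianRing (f := (Algebra.TensorProduct.comm k K ((A : Type u) ⧸ I)).toAlgHom.toRingHom) (Algebra.TensorProduct.comm k K ((A : Type u) ⧸ I)).surjective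
    haveI : Finite (PrimeSpectrum (((A : Type u) ⧸ I) ⊗[k] K)) := inferInstance
    exact Finite.of_injective (β := PrimeSpectrum (((A : Type u) ⧸ I) ⊗[k] K)) (fun w => e.hom w)
      e.hom.homeomorph.injective
  · rw [Scheme.Pullback.range_fst]
    exact hzj z hzU

end Groth.Agent.LeadAlg.FrobFix
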