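import Groth.Prelude.Def_AlgSpGpd

/-!
The shear maps of a groupoid in algebraic spaces.
-/

set_option autoImplicit false

universe u

open CategoryTheory CategoryTheory.Limits AlgebraicGeometry
open AlgSp

namespace Groth.Agent.LeadAlg.GrpdShear

variable {S : Scheme.{u}} {B : AlgSp.Sp S} (G : AlgSp.GroupoidSp B)

variable {T : AlgSp.Sp S}

/-- Composition of two arrows. -/
noncomputable def mul (α β : T ⟶ G.R) (h : α ≫ G.s = β ≫ G.t) : T ⟶ G.R :=
  pullback.lift α β h ≫ G.c

theorem mul_congr {α β α' β' : T ⟶ G.R} (h : α ≫ G.s = β ≫ G.t) (ha : α = α') (hb : β = β') :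
    mul G α β h = mul G α' β' (by rw [← ha, ← hb]; exact h) := by subst ha hb; rfl

theorem mul_s (α β : T ⟶ G.R) (h : α ≫ G.s = β ≫ G.t) : mul G α β h ≫ G.s = β ≫ G.s :=
  G.comp_s α β h

theorem mul_t (α β : T ⟶ G.R) (h : α ≫ G.s = β ≫ G.t) : mul G α β h ≫ G.t = α ≫ G.t :=
  G.comp_t α β h

theorem mul_assoc' (α β γ : T ⟶ G.R) (h₁ : α ≫ G.s = β ≫ G.t) (h₂ : β ≫ G.s = γ ≫ G.t) :
    mul G (mul G α β h₁) γ ((mul_s G α β h₁).trans h₂) =
      mul G α (mul G β γ h₂) (h₁.trans (mul_t G β γ h₂).symm) :=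
  G.assoc α β γ h₁ h₂

theorem cancel_left (α β : T ⟶ G.R) (h : α ≫ G.s = β ≫ G.t) :
    mul G (α ≫ G.i) (mul G α β h)
      (by rw [Category.assoc, G.i_s, mul_t]) = β := by
  rw [← mul_assoc' G (α ≫ G.i) α β (by rw [Category.assoc, G.i_s]) h]
  have e : mul G (α ≫ G.i) α (by rw [Category.assoc, G.i_s]) = β ≫ G.t ≫ G.e :=
    (G.i_comp α).trans (by rw [← Category.assoc, h, Category.assoc])
  rw [mul_congr G _ e rfl]
  exact G.e_comp β

theorem cancel_left' (α β : T ⟶ G.R) (h : α ≫ G.t = β ≫ G.t) :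
    mul G α (mul G (α ≫ G.i) β (by rw [Category.assoc, G.i_s, h]))
      (by rw [mul_t, Category.assoc, G.i_t]) = β := by
  rw [← mul_assoc' G α (α ≫ G.i) β (by rw [Category.assoc, G.i_t])
    (by rw [Category.assoc, G.i_s, h])]
  have e : mul G α (α ≫ G.i) (by rw [Category.assoc, G.i_t]) = β ≫ G.t ≫ G.e :=
    (G.comp_i α).trans (by rw [← Category.assoc, h, Category.assoc])
  rw [mul_congr G _ e rfl]
  exact G.e_comp β

theorem cancel_right (α β : T ⟶ G.R) (h : α ≫ G.s = β ≫ G.s) :
    mul G (mul G α (β ≫ G.i) (by rw [Category.assoc, G.i_t, h])) β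
      (by rw [mul_s, Category.assoc, G.i_s]) = α := by
  rw [mul_assoc' G α (β ≫ G.i) β (by rw [Category.assoc, G.i_t, h])
    (by rw [Category.assoc, G.i_s])]
  have e : mul G (β ≫ G.i) β (by rw [Category.assoc, G.i_s]) = α ≫ G.s ≫ G.e :=
    (G.i_comp β).trans (by rw [← Category.assoc, ← h, Category.assoc])
  rw [mul_congr G _ rfl e]
  exact G.comp_e α

theorem cancel_right' (α β : T ⟶ G.R) (h : α ≫ G.s = β ≫ G.t) :
    mul G (mul G α β h) (β ≫ G.i) (by rw [mul_s, Category.assoc, G.i_t]) = α := by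
  rw [mul_assoc' G α β (β ≫ G.i) h (by rw [Category.assoc, G.i_t])]
  have e : mul G β (β ≫ G.i) (by rw [Category.assoc, G.i_t]) = α ≫ G.s ≫ G.e :=
    (G.comp_i β).trans (by rw [← Category.assoc, ← h, Category.assoc])
  rw [mul_congr G _ rfl e]
  exact G.comp_e α

theorem comp_eq_mul (m : T ⟶ pullback G.s G.t) :
    m ≫ G.c = mul G (m ≫ pullback.fst G.s G.t) (m ≫ pullback.snd G.s G.t)
      (by rw [Category.assoc, Category.assoc, pullback.condition]) := by
  rw [mul]
  congr 1
  apply pullback.hom_ext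
  · rw [pullback.lift_fst]
  · rw [pullback.lift_snd]

theorem comp_mul {T' : AlgSp.Sp S} (m : T' ⟶ T) (α β : T ⟶ G.R) (h : α ≫ G.s = β ≫ G.t) :
    m ≫ mul G α β h = mul G (m ≫ α) (m ≫ β) (by rw [Category.assoc, Category.assoc, h]) := by
  rw [mul, mul, ← Category.assoc]
  congr 1
  apply pullback.hom_ext
  · rw [Category.assoc, pullback.lift_fst, pullback.lift_fst]
  · rw [Category.assoc, pullback.lift_snd, pullback.lift_snd]

theorem c_s : G.c ≫ G.s = pullback.snd G.s G.t ≫ G.s := by
  have h := mul_s G (pullback.fst G.s G.t) (pullback.snd G.s G.t) pullback.condition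
  have e := comp_eq_mul G (𝟙 (pullback G.s G.t))
  simp only [Category.id_comp] at e
  rw [e]; exact h

theorem c_t : G.c ≫ G.t = pullback.fst G.s G.t ≫ G.t := by
  have h := mul_t G (pullback.fst G.s G.t) (pullback.snd G.s G.t) pullback.condition
  have e := comp_eq_mul G (𝟙 (pullback G.s G.t))
  simp only [Category.id_comp] at e
  rw [e]; exact h

theorem isPullback_c : IsPullback G.c (pullback.snd G.s G.t) G.s G.s := by
  refine IsPullback.of_isLimit (c := PullbackCone.mk G.c (pullback.snd G.s G.t) (c_s G))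
    (PullbackCone.isLimitAux' _ fun z => ?_)
  refine ⟨(pullback.lift (mul G z.fst (z.snd ≫ G.i) (by rw [Category.assoc, G.i_t, z.condition]))
    z.snd (by rw [mul_s, Category.assoc, G.i_s]) : z.pt ⟶ pullback G.s G.t),
      ?_, pullback.lift_snd _ _ _, ?_⟩
  · exact cancel_right G z.fst z.snd z.condition
  · intro m hm₁ hm₂
    change z.pt ⟶ pullback G.s G.t at m
    change m ≫ G.c = z.fst at hm₁
    change m ≫ pullback.snd G.s G.t = z.snd at hm₂
    apply pullback.hom_ext
    · rw [pullback.lift_fst]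
      rw [comp_eq_mul] at hm₁
      refine ((mul_congr G _ hm₁.symm (congrArg (· ≫ G.i) hm₂.symm)).trans ?_).symm
      exact cancel_right' G _ _ _
    · rw [pullback.lift_snd, hm₂]

theorem shear (φ : pullback G.t G.t ⟶ pullback G.s G.t)
    (h₁ : φ ≫ pullback.fst G.s G.t = pullback.fst G.t G.t)
    (h₂ : φ ≫ pullback.snd G.s G.t = mul G (pullback.fst G.t G.t ≫ G.i) (pullback.snd G.t G.t)
      (by rw [Category.assoc, G.i_s, pullback.condition])) :
    IsIso φ ∧ φ ≫ G.c = pullback.snd G.t G.t := by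
  have hci : φ ≫ G.c = pullback.snd G.t G.t := by
    rw [comp_eq_mul, mul_congr G _ h₁ h₂]
    exact cancel_left' G _ _ pullback.condition
  refine ⟨⟨pullback.lift (pullback.fst G.s G.t) G.c (c_t G).symm, ?_, ?_⟩, hci⟩
  · apply pullback.hom_ext
    · rw [Category.assoc, pullback.lift_fst, h₁, Category.id_comp]
    · rw [Category.assoc, pullback.lift_snd, hci, Category.id_comp]
  · apply pullback.hom_ext
    · rw [Category.assoc, h₁, pullback.lift_fst, Category.id_comp]
    · rw [Category.assoc, h₂, Category.id_comp, comp_mul]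
      refine (mul_congr G _ (by rw [← Category.assoc, pullback.lift_fst])
        (pullback.lift_snd _ _ _)).trans ?_
      have e := cancel_left G (pullback.fst G.s G.t) (pullback.snd G.s G.t) pullback.condition
      refine Eq.trans ?_ e
      refine mul_congr G _ rfl ?_
      have e' := comp_eq_mul G (𝟙 (pullback G.s G.t))
      simp only [Category.id_comp] at e'
      exact e'

end Groth.Agent.LeadAlg.GrpdShear
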