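import Mathlib.RingTheory.GradedAlgebra.Basic
import Mathlib.Algebra.Polynomial.Coeff
import Mathlib.Algebra.Algebra.Operations
import Mathlib.Algebra.Polynomial.AlgebraMap

/-! `S♮_n = (S♮_1)^n` from rank `n₀` on iff `S_n = S_1^n`. -/

set_option autoImplicit false

universe u

open Polynomial

namespace Groth.Agent.LeadAlg.NaturalPow

variable {R A B : Type u} [CommRing R] [CommRing A] [Algebra R A]

theorem natural_eq_pow_iff (𝒜 : ℕ → Submodule R A) [GradedAlgebra 𝒜] [CommRing B] [Algebra R B]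
    (ℬ : ℕ → Submodule R B) [GradedAlgebra ℬ] (φ : B →ₐ[R] Polynomial A) (hφ : Function.Injective φ)
    (hdeg : ∀ n : ℕ, Submodule.map φ.toLinearMap (ℬ n) =
      Submodule.map ((Polynomial.monomial n : A →ₗ[A] Polynomial A).restrictScalars R)
        (⨆ (m : ℕ) (_ : n ≤ m), 𝒜 m)) (n₀ : ℕ) (hn₀ : 1 ≤ n₀) :
    (∀ n : ℕ, n₀ ≤ n → ℬ n = ℬ 1 ^ n) ↔ (∀ n : ℕ, n₀ ≤ n → 𝒜 n = 𝒜 1 ^ n) := by
  classical
  let G : ℕ → Submodule R A := fun n => ⨆ (m : ℕ) (_ : n ≤ m), 𝒜 m
  let μ : ℕ → A →ₗ[R] Polynomial A := fun n =>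
    (Polynomial.monomial n : A →ₗ[A] Polynomial A).restrictScalars R
  have hμ : ∀ (i j : ℕ) (P Q : Submodule R A),
      P.map (μ i) * Q.map (μ j) = (P * Q).map (μ (i + j)) := by
    intro i j P Q
    refine le_antisymm (Submodule.mul_le.2 ?_) (Submodule.map_le_iff_le_comap.2 (Submodule.mul_le.2 ?_))
    · intro p hp q hq
      obtain ⟨a, ha, rfl⟩ := Submodule.mem_map.1 hp
      obtain ⟨b, hb, rfl⟩ := Submodule.mem_map.1 hq
      exact Submodule.mem_map.2 ⟨a * b, Submodule.mul_mem_mul ha hb, (monomial_mul_monomial i j a b).symm⟩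
    · intro a ha b hb
      show μ (i + j) (a * b) ∈ P.map (μ i) * Q.map (μ j)
      rw [show μ (i + j) (a * b) = μ i a * μ j b from (monomial_mul_monomial i j a b).symm]
      exact Submodule.mul_mem_mul (Submodule.mem_map_of_mem ha) (Submodule.mem_map_of_mem hb)
  have hpow : ∀ n, 1 ≤ n → Submodule.map φ.toLinearMap (ℬ 1 ^ n) = (G 1 ^ n).map (μ n) := by
    intro n hn
    induction n, hn using Nat.le_induction with
    | base => rw [pow_one, pow_one, hdeg]
    | succ n hn ih => rw [pow_succ, Submodule.map_mul, ih, hdeg, hμ, ← pow_succ]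
  have hiff : ∀ n, 1 ≤ n → (ℬ n = ℬ 1 ^ n ↔ G n = G 1 ^ n) := by
    intro n hn
    have hi : Function.Injective (Submodule.map φ.toLinearMap) := Submodule.map_injective_of_injective hφ
    have hj : Function.Injective (Submodule.map (μ n)) :=
      Submodule.map_injective_of_injective (Polynomial.monomial_injective n)
    exact ⟨fun h => hj (by rw [← hpow n hn, ← h, hdeg]),
      fun h => hi (by rw [hpow n hn, ← h, hdeg])⟩
  rw [show (∀ n, n₀ ≤ n → ℬ n = ℬ 1 ^ n) ↔ ∀ n, n₀ ≤ n → G n = G 1 ^ n from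
    forall₂_congr fun n hn => hiff n (hn₀.trans hn)]
  have hle : ∀ {n m : ℕ}, n ≤ m → 𝒜 m ≤ G n := fun {n m} h => le_iSup₂_of_le m h le_rfl
  have hanti : ∀ {a b : ℕ}, a ≤ b → G b ≤ G a := fun {a b} h =>
    iSup₂_le fun m hm => hle (h.trans hm)
  have hGmul : ∀ a b, G a * G b ≤ G (a + b) := by
    intro a b
    simp only [G, Submodule.iSup_mul, Submodule.mul_iSup]
    exact iSup₂_le fun j hj => iSup₂_le fun i hi =>
      (Submodule.mul_le.2 fun x hx y hy => SetLike.mul_mem_graded hx hy).trans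
        (hle (show a + b ≤ i + j by omega))
  have hA : ∀ n, 1 ≤ n → 𝒜 1 ^ n ≤ 𝒜 n := by
    intro n hn
    induction n, hn using Nat.le_induction with
    | base => rw [pow_one]
    | succ n hn ih =>
      rw [pow_succ]
      exact Submodule.mul_le.2 fun x hx y hy => SetLike.mul_mem_graded (ih hx) hy
  constructor
  · intro h n hn
    refine le_antisymm ?_ (hA n (hn₀.trans hn))
    have key : ∀ n, 1 ≤ n → G 1 ^ n ≤ 𝒜 1 ^ n ⊔ G (n + 1) := by
      intro n hn
      induction n, hn using Nat.le_induction with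
      | base =>
        rw [pow_one, pow_one]
        refine iSup₂_le fun m hm => ?_
        rcases eq_or_lt_of_le hm with rfl | hlt
        · exact le_sup_left
        · exact le_sup_of_le_right (hle hlt)
      | succ n hn ih =>
        have h1 : G 1 ≤ 𝒜 1 ⊔ G 2 := iSup₂_le fun m hm => by
          rcases eq_or_lt_of_le hm with rfl | hlt
          · exact le_sup_left
          · exact le_sup_of_le_right (hle hlt)
        rw [pow_succ, pow_succ]
        refine (mul_le_mul' ih h1).trans ?_
        rw [Submodule.sup_mul, Submodule.mul_sup, Submodule.mul_sup]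
        refine sup_le (sup_le le_sup_left (le_sup_of_le_right ?_)) (le_sup_of_le_right (sup_le ?_ ?_))
        · exact (mul_le_mul' ((hA n hn).trans (hle le_rfl)) le_rfl).trans (hGmul n 2)
        · exact (mul_le_mul' le_rfl (hle le_rfl)).trans (hGmul (n + 1) 1)
        · exact (hGmul (n + 1) 2).trans (hanti (by omega))
    intro x hx
    have hx' : x ∈ 𝒜 1 ^ n ⊔ G (n + 1) := key n (hn₀.trans hn) (h n hn ▸ hle le_rfl hx)
    obtain ⟨y, hy, z, hz, rfl⟩ := Submodule.mem_sup.1 hx'
    have hy' : y ∈ 𝒜 n := hA n (hn₀.trans hn) hy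
    have hz' : z ∈ 𝒜 n := by simpa using sub_mem hx hy'
    have hz0 : G (n + 1) ≤ LinearMap.ker (GradedAlgebra.proj 𝒜 n) := iSup₂_le fun m hm w hw => by
      rw [LinearMap.mem_ker, GradedAlgebra.proj_apply,
        DirectSum.decompose_of_mem_ne 𝒜 hw (by omega)]
    have hzz : GradedAlgebra.proj 𝒜 n z = 0 := hz0 hz
    rw [GradedAlgebra.proj_apply, DirectSum.decompose_of_mem_same 𝒜 hz'] at hzz
    rw [hzz, add_zero]
    exact hy
  · intro h n hn
    have hn1 : 1 ≤ n := hn₀.trans hn
    refine le_antisymm (iSup₂_le fun m hm => ?_) ?_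
    · rw [h m (hn.trans hm)]
      obtain ⟨d, rfl⟩ := Nat.exists_eq_add_of_le hm
      refine (pow_le_pow_left' (hle le_rfl) _).trans ?_
      induction d with
      | zero => exact le_rfl
      | succ d ih =>
        refine le_trans ?_ (ih (by omega))
        obtain ⟨j, hj⟩ := Nat.exists_eq_add_of_le (show 1 ≤ n + d by omega)
        rw [show n + (d + 1) = j + 2 by omega, show n + d = j + 1 by omega, pow_succ (G 1) (j + 1),
          pow_succ (G 1) j, mul_assoc]
        exact mul_le_mul' le_rfl ((hGmul 1 1).trans (hanti (by omega)))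
    · have : ∀ k, 1 ≤ k → G 1 ^ k ≤ G k := by
        intro k hk
        induction k, hk using Nat.le_induction with
        | base => rw [pow_one]
        | succ k hk ih => rw [pow_succ]; exact (mul_le_mul' ih le_rfl).trans (hGmul k 1)
      exact this n hn1

end Groth.Agent.LeadAlg.NaturalPow
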