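import Mathlib.RingTheory.PicardGroup
import Mathlib.RingTheory.DedekindDomain.Factorization
import Mathlib.LinearAlgebra.Pi

/-!
Steinitz's isomorphism for invertible modules over a Dedekind domain.
-/

open scoped TensorProduct

universe u v w

namespace Groth.Agent.LeadAlg.Steinitz

variable {R : Type u} [CommRing R] [IsDomain R]

/-- An ideal is isomorphic to its multiple by a nonzero scalar. -/
noncomputable def scaleEquiv (I : Ideal R) {b : R} (hb : b ≠ 0) :
    I ≃ₗ[R] (Ideal.span {b} * I : Ideal R) :=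
  LinearEquiv.ofBijective
    ((LinearMap.mulLeft R b).restrict (q := (Ideal.span {b} * I : Ideal R)) fun x hx =>
      Ideal.mul_mem_mul (Ideal.mem_span_singleton_self b) hx)
    ⟨fun x y h => Subtype.ext (mul_left_cancel₀ hb (congrArg Subtype.val h)), fun z => by
      obtain ⟨w, hw, hw'⟩ := Ideal.mem_span_singleton_mul.1 z.2
      exact ⟨⟨w, hw⟩, Subtype.ext hw'⟩⟩

variable [IsDedekindDomain R]

/-- In each ideal class there is an ideal coprime to a given nonzero ideal. -/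
theorem exists_coprime_linearEquiv (I J : Ideal R) (hI : I ≠ ⊥) (hJ : J ≠ ⊥) :
    ∃ I' : Ideal R, I' ⊔ J = ⊤ ∧ Nonempty (I ≃ₗ[R] I') := by
  obtain ⟨a, haI, ha⟩ := Submodule.exists_mem_ne_zero_of_ne_bot hI
  obtain ⟨A, hA⟩ : I ∣ Ideal.span {a} :=
    Ideal.dvd_iff_le.2 (I.span_singleton_le_iff_mem.2 haI)
  have hA0 : A ≠ 0 := by
    rintro rfl
    rw [mul_zero] at hA
    exact ha (by simpa using hA)
  obtain ⟨b, hb⟩ := IsDedekindDomain.exists_sup_span_eq (I := A * J) (J := A)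
    Ideal.mul_le_left (mul_ne_zero hA0 hJ)
  by_cases hb0 : b = 0
  · have hAJ : A * J = A * 1 := by simpa [hb0] using hb
    exact ⟨I, by simp [mul_left_cancel₀ hA0 hAJ], ⟨LinearEquiv.refl R I⟩⟩
  obtain ⟨I', hI'⟩ : A ∣ Ideal.span {b} :=
    Ideal.dvd_iff_le.2 (le_sup_right.trans hb.le)
  refine ⟨I', ?_, ?_⟩
  · have : A * (I' ⊔ J) = A * ⊤ := by
      rw [Ideal.mul_sup, Ideal.mul_top, ← hI', sup_comm]
      exact hb
    exact mul_left_cancel₀ hA0 this
  · have : Ideal.span {b} * I = Ideal.span {a} * I' := by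
      rw [hI', hA, mul_right_comm A I' I, mul_comm A I]
    exact ⟨scaleEquiv I hb0 ≪≫ₗ LinearEquiv.ofEq _ _ this ≪≫ₗ (scaleEquiv I' ha).symm⟩

omit [IsDomain R] [IsDedekindDomain R] in
/-- For coprime ideals, `I × J ≅ R × IJ`. -/
theorem prod_equiv_of_sup_eq_top (I J : Ideal R) (h : I ⊔ J = ⊤) :
    Nonempty ((I × J) ≃ₗ[R] (R × (I * J : Ideal R))) := by
  obtain ⟨i, hi, j, hj, hij⟩ :=
    Submodule.mem_sup.1 (h ▸ Submodule.mem_top : (1 : R) ∈ I ⊔ J)
  refine ⟨{
    toFun := fun p => (p.1.1 + p.2.1, ⟨j * p.1.1 - i * p.2.1,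
      sub_mem (by rw [mul_comm j]; exact Ideal.mul_mem_mul p.1.2 hj)
        (Ideal.mul_mem_mul hi p.2.2)⟩)
    invFun := fun q => (⟨i * q.1 + q.2.1, add_mem (I.mul_mem_right _ hi) (Ideal.mul_le_left q.2.2)⟩,
      ⟨j * q.1 - q.2.1, sub_mem (J.mul_mem_right _ hj) (Ideal.mul_le_right q.2.2)⟩)
    map_add' := ?_
    map_smul' := ?_
    left_inv := ?_
    right_inv := ?_ }⟩
  · intro p q
    ext <;> simp <;> ring
  · intro c p
    ext <;> simp <;> ring
  · intro p
    ext <;> simp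
    · linear_combination (p.1.1 : R) * hij
    · linear_combination (p.2.1 : R) * hij
  · intro q
    ext <;> simp
    · linear_combination q.1 * hij
    · linear_combination (q.2.1 : R) * hij

variable (R) in
omit [IsDedekindDomain R] in
theorem exists_ne_bot_linearEquiv (M : Type v) [AddCommGroup M] [Module R M]
    [Module.Invertible R M] : ∃ I : Ideal R, I ≠ ⊥ ∧ Nonempty (M ≃ₗ[R] I) := by
  obtain ⟨I, ⟨e⟩⟩ := Module.Invertible.exists_linearEquiv_ideal R M
  refine ⟨I, ?_, ⟨e⟩⟩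
  rintro rfl
  haveI : Subsingleton M := e.toEquiv.subsingleton
  haveI : Subsingleton (Module.Dual R M ⊗[R] M) := inferInstance
  exact not_subsingleton R ((Module.Invertible.linearEquiv R M).symm.toEquiv.subsingleton)

/-- Steinitz: `M × N ≅ R × (M ⊗ N)`. -/
theorem prod_equiv_tensor (M : Type v) [AddCommGroup M] [Module R M] [Module.Invertible R M]
    (N : Type w) [AddCommGroup N] [Module R N] [Module.Invertible R N] :
    Nonempty ((M × N) ≃ₗ[R] (R × (M ⊗[R] N))) := by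
  obtain ⟨I, hI, ⟨eM⟩⟩ := exists_ne_bot_linearEquiv R M
  obtain ⟨J, hJ, ⟨eN⟩⟩ := exists_ne_bot_linearEquiv R N
  obtain ⟨I', hI', ⟨eI⟩⟩ := exists_coprime_linearEquiv I J hI hJ
  obtain ⟨e⟩ := prod_equiv_of_sup_eq_top I' J hI'
  haveI : Module.Invertible R I' := Module.Invertible.congr (eM ≪≫ₗ eI)
  let em : I' ⊗[R] J ≃ₗ[R] (I' * J : Ideal R) := Submodule.LinearDisjoint.mulMap
    (.of_left_le_one_of_flat I' J <| le_top.trans Ideal.one_eq_top.ge)
  exact ⟨LinearEquiv.prodCongr (eM ≪≫ₗ eI) eN ≪≫ₗ e ≪≫ₗ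
    LinearEquiv.prodCongr (LinearEquiv.refl R R)
      (em.symm ≪≫ₗ TensorProduct.congr (eM ≪≫ₗ eI).symm eN.symm)⟩

/-- `N^(n+1) ≅ R^n × [N]^(n+1)`. -/
theorem pi_equiv_prod_pow (N : Type v) [AddCommGroup N] [Module R N] [Module.Invertible R N] :
    ∀ n : ℕ, Nonempty ((Fin (n + 1) → N) ≃ₗ[R]
      ((Fin n → R) × (CommRing.Pic.mk R N ^ (n + 1) : CommRing.Pic R).AsModule))
  | 0 => by
    refine ⟨LinearEquiv.funUnique (Fin 1) R N ≪≫ₗ ?_ ≪≫ₗ LinearEquiv.uniqueProd.symm⟩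
    exact ((CommRing.Pic.mk_eq_iff (R := R) (M := N)).1 (pow_one _).symm).some
  | n + 1 => by
    obtain ⟨e⟩ := pi_equiv_prod_pow N n
    obtain ⟨f⟩ := prod_equiv_tensor (R := R) N
      (CommRing.Pic.mk R N ^ (n + 1) : CommRing.Pic R).AsModule
    have hmk : CommRing.Pic.mk R (N ⊗[R] (CommRing.Pic.mk R N ^ (n + 1) :
        CommRing.Pic R).AsModule) = CommRing.Pic.mk R N ^ (n + 2) := by
      rw [CommRing.Pic.mk_tensor, CommRing.Pic.mk_eq_self, ← pow_succ']
    obtain ⟨g⟩ := CommRing.Pic.mk_eq_iff.1 hmk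
    exact ⟨(Fin.consLinearEquiv R fun _ : Fin (n + 2) => N).symm ≪≫ₗ
      LinearEquiv.prodCongr (LinearEquiv.refl R N) e ≪≫ₗ
      (LinearEquiv.prodAssoc R _ _ _).symm ≪≫ₗ
      LinearEquiv.prodCongr (LinearEquiv.prodComm R N (Fin n → R)) (LinearEquiv.refl R _) ≪≫ₗ
      LinearEquiv.prodAssoc R _ _ _ ≪≫ₗ
      LinearEquiv.prodCongr (LinearEquiv.refl R _) (f ≪≫ₗ
        LinearEquiv.prodCongr (LinearEquiv.refl R R) g) ≪≫ₗ
      (LinearEquiv.prodAssoc R _ _ _).symm ≪≫ₗ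
      LinearEquiv.prodCongr (LinearEquiv.prodComm R (Fin n → R) R ≪≫ₗ
        Fin.consLinearEquiv R fun _ : Fin (n + 1) => R) (LinearEquiv.refl R _)⟩

theorem pi_equiv_of_pow_eq_one (N : Type v) [AddCommGroup N] [Module R N] [Module.Invertible R N]
    (n : ℕ) (h : CommRing.Pic.mk R N ^ n = 1) :
    Nonempty ((Fin n → N) ≃ₗ[R] (Fin n → R)) := by
  cases n with
  | zero => exact ⟨{ toFun := fun _ => Fin.elim0, invFun := fun _ => Fin.elim0,
                     map_add' := fun _ _ => funext fun i => i.elim0,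
                     map_smul' := fun _ _ => funext fun i => i.elim0,
                     left_inv := fun _ => funext fun i => i.elim0,
                     right_inv := fun _ => funext fun i => i.elim0 }⟩
  | succ n =>
    obtain ⟨e⟩ := pi_equiv_prod_pow (R := R) N n
    rw [h] at e
    obtain ⟨g⟩ := Module.Invertible.free_iff_linearEquiv.1
      (inferInstance : Module.Free R (1 : CommRing.Pic R).AsModule)
    exact ⟨e ≪≫ₗ LinearEquiv.prodCongr (LinearEquiv.refl R _) g ≪≫ₗ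
      LinearEquiv.prodComm R _ _ ≪≫ₗ Fin.consLinearEquiv R fun _ : Fin (n + 1) => R⟩

end Groth.Agent.LeadAlg.Steinitz
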